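import Mathlib
import Cfsg.Agent.Base
import Cfsg.Agent.Lib.GW.PslAut
import Cfsg.Agent.Lib.GWCor.Quat
import Cfsg.Agent.Lib.Ree2.PSL0
import Cfsg.Agent.Lib.GL2Char.Conj

/-!
# Automorphisms of `PSL₂(q)` of `r`-power order fixing a Sylow `r`-subgroup pointwise
-/

set_option autoImplicit false

namespace H14.W

open Matrix Subgroup H64.SL2 H67 H29 Cfsg
open scoped MatrixGroups

section General

variable {G : Type*} [Group G]

/-- Conjugating an automorphism which fixes a Sylow subgroup so that it fixes a given `r`-group. -/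
theorem exists_conj_fix [Finite G] {r : ℕ} [Fact r.Prime] {β : MulAut G} (R : Sylow r G)
    (hR : ∀ x ∈ (R : Subgroup G), β x = x) {P : Subgroup G} (hP : IsPGroup r P) :
    ∃ g : G, ∀ x ∈ P, ((MulAut.conj g)⁻¹ * β * MulAut.conj g) x = x := by
  obtain ⟨Q, hQ⟩ := hP.exists_le_sylow
  obtain ⟨g, hg⟩ := MulAction.exists_smul_eq G Q R
  refine ⟨g, fun x hx => ?_⟩
  have h1 : g * x * g⁻¹ ∈ (R : Subgroup G) := by
    rw [← hg, Sylow.coe_subgroup_smul]
    exact Subgroup.smul_mem_pointwise_smul _ _ _ (hQ hx)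
  simp only [MulAut.mul_apply, MulAut.conj_apply, hR _ h1, MulAut.conj_inv_apply]
  group

theorem mem_inn_of_conj {β γ : MulAut G} (h : γ⁻¹ * β * γ ∈ Inn G) : β ∈ Inn G := by
  have := (Cfsg.innNormal G).conj_mem _ h γ
  simpa [mul_assoc] using this

theorem conj_pow_eq_one {β γ : MulAut G} {n : ℕ} (h : β ^ n = 1) : (γ⁻¹ * β * γ) ^ n = 1 := by
  have := conj_pow (a := γ⁻¹) (b := β) (i := n)
  rw [inv_inv] at this
  rw [this, h]; simp

theorem mem_of_sq_mem {H : Subgroup G} {x : G} {n : ℕ} (hn : Odd n) (h : x ^ n = 1)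
    (h2 : x ^ 2 ∈ H) : x ∈ H := by
  obtain ⟨k, rfl⟩ := hn
  have : x = ((x ^ 2) ^ k)⁻¹ := by
    rw [eq_inv_iff_mul_eq_one, ← pow_mul, ← pow_succ', h]
  rw [this]
  exact H.inv_mem (H.pow_mem h2 k)

end General

variable {F : Type*} [Field F]

/-- An automorphism fixing the unitriangular group pointwise is inner. -/
theorem inn_of_fix_unitri [Finite F] {β : MulAut PSL(2, F)}
    (h : ∀ x ∈ H10.unitriSL (Fin 2) F, β (proj x) = proj x) : β ∈ Inn PSL(2, F) := by
  obtain ⟨M, σ, rfl⟩ := exists_eq_inn_mul_field β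
  have key : ∀ x : F, x * M.1 1 0 = 0 ∧ x * M.1 1 1 = M.1 0 0 * σ x := by
    intro x
    let u : SL(2, F) := mk 1 x 0 1 (by ring)
    have hu : u ∈ H10.unitriSL (Fin 2) F := H14.JR.mem_unitri.2 ⟨rfl, rfl, rfl⟩
    obtain ⟨s', h1, h2⟩ := exists_semilin M σ u
    have h3 := tr_semilin h1
    rw [H14.JR.tr_unitri hu, map_ofNat] at h3
    rw [h u hu, proj_eq_iff] at h2
    have h4 : s' = u := by
      rcases h2 with h2 | h2
      · exact h2.symm
      · have h5 := H14.JR.tr_unitri hu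
        rw [h2, tr_neg, h3] at h5
        have h6 : (2 : F) = 0 := by
          have : (2 : F) * 2 = 0 := by linear_combination -h5
          exact mul_self_eq_zero.1 this
        rw [h2, neg_eq_self_of_two_eq_zero h6]
    rw [h4] at h1
    have e00 := congrFun (congrFun h1 0) 0
    have e01 := congrFun (congrFun h1 0) 1
    simp [u, H64.SL2.coe_mk, Matrix.mul_apply, Fin.sum_univ_two] at e00 e01
    refine ⟨by simpa using e00, by linear_combination e01⟩
  have hc : M.1 1 0 = 0 := by simpa using (key 1).1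
  have hd : M.1 1 1 = M.1 0 0 := by simpa using (key 1).2
  have hdet : M.1.det = M.1 0 0 ^ 2 := by rw [det_fin_two, hc, hd]; ring
  have ha : M.1 0 0 ≠ 0 := fun e => M.det_ne_zero (by rw [hdet, e]; ring)
  have hσ : σ = 1 := by
    ext x
    have := (key x).2
    rw [hd, mul_comm] at this
    exact (mul_left_cancel₀ ha this).symm
  rw [hσ, map_one, mul_one]
  exact pslInn_mem_inn (c := Units.mk0 _ ha) (Units.ext (by simpa using hdet))

theorem scalar_of_comm (h2 : (2 : F) ≠ 0) {s t : SL(2, F)} (h : s * t = -(t * s))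
    {N : Matrix (Fin 2) (Fin 2) F} (hs : N * s.1 = s.1 * N) (ht : N * t.1 = t.1 * N) :
    ∃ x : F, N.det = x ^ 2 := by
  have h' : s.1 * t.1 = -(t.1 * s.1) := congrArg Subtype.val h
  have hst : ∀ y : F, y • (s.1 * t.1) = y • (t.1 * s.1) → y = 0 := by
    intro y hy
    have h3 : (2 * y) • (s.1 * t.1) = 0 := by
      rw [mul_smul, two_smul, hy]
      conv_lhs => congr; rw [← hy, h']
      simp
    have h4 := congrArg Matrix.det h3
    rw [det_smul, det_mul, s.2, t.2] at h4
    simpa [h2] using h4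
  have hsc : ¬ H62.GL2.IsSc s.1 := by
    intro e
    have hc : s ∈ center SL(2, F) := mem_center_iff_entries.2 e
    have := hst 1 (by rw [one_smul, one_smul]; exact congrArg Subtype.val (mem_center_iff.1 hc t).symm)
    exact one_ne_zero this
  obtain ⟨x, y, rfl⟩ := H62.GL2.exists_eq_of_commute hsc hs
  have hy : y = 0 := hst y (by simpa [add_mul, mul_add] using ht)
  exact ⟨x, by simp [hy]⟩

/-- An inner-diagonal automorphism fixing a four-group pointwise is inner. -/
theorem inn_of_fix_pair (h2 : (2 : F) ≠ 0) {s t : SL(2, F)} (h : s * t = -(t * s))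
    {M : GL (Fin 2) F} (hs : pslInn (Fin 2) F M (proj s) = proj s)
    (ht : pslInn (Fin 2) F M (proj t) = proj t) : pslInn (Fin 2) F M ∈ Inn PSL(2, F) := by
  have h' : s.1 * t.1 = -(t.1 * s.1) := congrArg Subtype.val h
  have h'' : t.1 * s.1 = -(s.1 * t.1) := by rw [h', neg_neg]
  have key : ∃ x : F, M.1.det = x ^ 2 := by
    rcases (pslInn_fix_iff M s).1 hs with a | a <;> rcases (pslInn_fix_iff M t).1 ht with b | b
    · exact scalar_of_comm h2 h a.symm b.symm
    · obtain ⟨x, hx⟩ := scalar_of_comm h2 h (N := M.1 * s.1) (by rw [← mul_assoc, a])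
        (by rw [← mul_assoc, b, mul_assoc, h', neg_mul, mul_assoc, h'']; simp)
      exact ⟨x, by rw [← hx, det_mul, s.2, mul_one]⟩
    · obtain ⟨x, hx⟩ := scalar_of_comm h2 h (N := M.1 * t.1)
        (by rw [← mul_assoc, a, mul_assoc, h'', neg_mul, mul_assoc]; simp) (by rw [← mul_assoc, b])
      exact ⟨x, by rw [← hx, det_mul, t.2, mul_one]⟩
    · obtain ⟨x, hx⟩ := scalar_of_comm h2 h (N := M.1 * s.1 * t.1)
        (by rw [← mul_assoc, ← mul_assoc, a, mul_assoc _ t.1, h'']; simp [mul_assoc])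
        (by rw [← mul_assoc, ← mul_assoc, b, neg_mul, neg_mul, mul_assoc M.1 t.1, h'']
            simp [mul_assoc])
      exact ⟨x, by rw [← hx, det_mul, det_mul, s.2, t.2, mul_one, mul_one]⟩
  obtain ⟨x, hx⟩ := key
  have hx0 : x ≠ 0 := fun e => M.det_ne_zero (by rw [hx, e]; ring)
  exact pslInn_mem_inn (c := Units.mk0 _ hx0) (Units.ext (by simpa using hx))

theorem exists_anti_pair [Finite F] (hF : Odd (Nat.card F)) :
    ∃ s t : SL(2, F), s * t = -(t * s) ∧ IsPair (proj s) (proj t) := by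
  have h2 := H10.two_ne_zero_of_odd_card hF
  obtain ⟨a, b, hp⟩ := psl_exists_isPair hF
  obtain ⟨s, rfl⟩ := proj_surjective a
  obtain ⟨t, rfl⟩ := proj_surjective b
  refine ⟨s, t, ?_, hp⟩
  have hc := hp.comm
  rw [← map_mul, ← map_mul, proj_eq_iff] at hc
  refine hc.resolve_left fun e => ?_
  have f : ∀ {u : SL(2, F)}, proj u * proj u = 1 → proj u ≠ 1 → tr u = 0 := fun h1 h2 =>
    (mem_center_or_tr_eq_zero_of_sq (proj_eq_one_iff.1 (by rw [map_mul, h1]))).resolve_left
      fun h => h2 (proj_eq_one_iff.2 h)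
  have h4 : t ^ 4 = 1 := H14.JR.orderOf_four h2 (f hp.sq₂ hp.ne₂) ▸ pow_orderOf_eq_one t
  rcases H14.JR.four_cases h2 (f hp.sq₁ hp.ne₁) e.symm h4 with h | h | h | h
  · exact hp.ne₂ (by rw [h, map_one])
  · exact hp.ne₂ (by rw [h, proj_neg, map_one])
  · exact hp.ne (by rw [h])
  · exact hp.ne (by rw [h, proj_neg])

theorem pow_dvd_geom {r a n x : ℕ} (hn : Odd n) (hr : r ∣ n) (hx : 1 ≤ x) :
    (r ^ (a + 1) ∣ x - 1 → r ^ (a + 2) ∣ x ^ n - 1) ∧
      (r ^ (a + 1) ∣ x + 1 → r ^ (a + 2) ∣ x ^ n + 1) := by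
  have key : ∀ y : ℤ, (r : ℤ) ^ (a + 1) ∣ x - y → (r : ℤ) ^ (a + 2) ∣ x ^ n - y ^ n := by
    intro y hy
    have h1 : (r : ℤ) ∣ x - y := (dvd_pow_self _ (Nat.succ_ne_zero a)).trans hy
    have h2 := (dvd_geom_sum₂_iff_of_dvd_sub (n := n) h1).2
      (Dvd.dvd.mul_right (Int.natCast_dvd_natCast.2 hr) _)
    rw [← geom_sum₂_mul, pow_succ' _ (a + 1)]
    exact mul_dvd_mul h2 hy
  have hxn : 1 ≤ x ^ n := Nat.one_le_pow _ _ hx
  constructor
  · intro h
    have := key 1 (by simpa [hx] using Int.natCast_dvd_natCast.2 h)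
    rw [← Int.natCast_dvd_natCast]
    simpa [hxn] using this
  · intro h
    have := key (-1) (by simpa using Int.natCast_dvd_natCast.2 h)
    rw [← Int.natCast_dvd_natCast]
    simpa [hn.neg_one_pow] using this

theorem order_step [Finite F] (σ : RingAut F) {r a : ℕ} (hn : Odd (orderOf σ))
    (hr : r ∣ orderOf σ) {s : SL(2, F)} (hs : orderOf s = r ^ (a + 1)) (ht : σ (tr s) = tr s)
    (h4 : tr s ^ 2 ≠ 4) : ∃ s' : SL(2, F), orderOf s' = r ^ (a + 2) := by
  let t0 : fixF σ := ⟨tr s, mem_fixF.2 ht⟩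
  let φ : SL(2, fixF σ) →* SL(2, F) := SpecialLinearGroup.map (fixF σ).subtype
  have h1 : φ (comp t0) = comp (tr s) := by
    apply ext' <;> rfl
  have h5 : tr (comp t0) ^ 2 ≠ 4 := by
    rw [tr_comp]
    intro e
    exact h4 (by simpa [t0, map_ofNat] using congrArg (fixF σ).subtype e)
  obtain ⟨c, hc⟩ := isConj_iff.1 (isConj_comp h4)
  have h6 : ∀ m, comp t0 ^ m = 1 → r ^ (a + 1) ∣ m := fun m hm => by
    rw [← hs, orderOf_dvd_iff_pow_eq_one, ← hc, conj_pow, ← h1, ← map_pow, hm]; simp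
  have hq := card_fixF_pow σ
  obtain ⟨k1, k2⟩ := pow_dvd_geom (r := r) (a := a) hn hr (Nat.card_pos (α := fixF σ))
  rw [hq] at k1 k2
  by_cases hsp : Split (comp t0)
  · obtain ⟨g, hg⟩ := exists_orderOf_eq_card_sub_one (F := F)
    exact exists_orderOf_eq_of_dvd g (hg ▸ k1 (h6 _ (pow_eq_one_of_split h5 hsp)))
  · obtain ⟨g, hg⟩ := exists_orderOf_eq_card_add_one (F := F)
    exact exists_orderOf_eq_of_dvd g (hg ▸ k2 (h6 _ (pow_eq_one_of_not_split hsp)))

/-- A field automorphism of odd `r`-power order fixing the traces of all `r`-elements is trivial. -/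
theorem field_eq_one [Finite F] (σ : RingAut F) {r k : ℕ} [hr : Fact r.Prime] (hr2 : r ≠ 2)
    (hrF : (r : F) ≠ 0) (hσ : σ ^ r ^ k = 1) (hd : r ∣ Nat.card SL(2, F))
    (h : ∀ (s : SL(2, F)) (a : ℕ), orderOf s = r ^ a → σ (tr s) = tr s) : σ = 1 := by
  by_contra hne
  obtain ⟨j, -, hj⟩ := (Nat.dvd_prime_pow hr.out).1 (orderOf_dvd_of_pow_eq_one hσ)
  have hj0 : j ≠ 0 := fun e => hne (by rw [e, pow_zero, orderOf_eq_one_iff] at hj; exact hj)
  have hodd := hr.out.odd_of_ne_two hr2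
  obtain ⟨p, hp⟩ := CharP.exists F
  have hp' := CharP.char_is_prime F p
  have hcop : ∀ a, Nat.Coprime (r ^ a) (2 * p) := fun a =>
    Nat.Coprime.pow_left _ (Nat.Coprime.mul_right
      ((Nat.coprime_primes hr.out Nat.prime_two).2 hr2)
      ((Nat.coprime_primes hr.out hp').2 fun e => hrF (e ▸ CharP.cast_eq_zero F p)))
  have key : ∀ a, ∃ s : SL(2, F), orderOf s = r ^ (a + 1) := by
    intro a
    induction a with
    | zero => simpa using exists_prime_orderOf_dvd_card' r hd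
    | succ a ih =>
      obtain ⟨s, hs⟩ := ih
      refine order_step σ (hj ▸ hodd.pow) (hj ▸ dvd_pow_self r hj0) hs (h s _ hs) fun e => ?_
      have h1 := H14.JR.eq_one_of_coprime (hs ▸ pow_orderOf_eq_one s)
        (pow_two_mul_char_eq_one p e) (hcop _)
      rw [h1, orderOf_one] at hs
      exact absurd hs.symm (Nat.one_lt_pow (Nat.succ_ne_zero a) hr.out.one_lt).ne'
  obtain ⟨s, hs⟩ := key (Nat.card SL(2, F))
  have h1 := _root_.orderOf_le_card (x := s)
  have h2 := Nat.lt_pow_self (n := Nat.card SL(2, F) + 1) hr.out.one_lt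
  omega

/-- An automorphism of `PSL₂(q)`, `q` even or `q ≡ ±3 (mod 8)`, of `r`-power order fixing a Sylow
`r`-subgroup pointwise is inner. -/
theorem psl_inn_of_fix [Fintype F]
    (hF : Fintype.card F % 8 = 0 ∨ Fintype.card F % 8 = 3 ∨ Fintype.card F % 8 = 5)
    {r k : ℕ} [hr : Fact r.Prime] (hd : r ∣ Nat.card PSL(2, F)) {β : MulAut PSL(2, F)}
    (hβ : β ^ r ^ k = 1) (R : Sylow r PSL(2, F)) (hR : ∀ x ∈ (R : Subgroup PSL(2, F)), β x = x) :
    β ∈ Inn PSL(2, F) := by
  by_cases hrF : (r : F) = 0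
  · haveI : CharP F r := (CharP.charP_iff_prime_eq_zero hr.out).2 hrF
    obtain ⟨g, hg⟩ := exists_conj_fix R hR ((H10.isPGroup_unitriSL (ι := Fin 2) (F := F) r).map proj)
    exact mem_inn_of_conj (inn_of_fix_unitri fun x hx => hg _ (mem_map_of_mem _ hx))
  by_cases hr2 : r = 2
  · subst hr2
    have h2 : (2 : F) ≠ 0 := by exact_mod_cast hrF
    have hodd := odd_card_of_two_ne_zero h2
    obtain ⟨s, t, hst, hp⟩ := exists_anti_pair (F := F)
      (by rw [Nat.card_eq_fintype_card]; exact Nat.odd_iff.2 hodd)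
    obtain ⟨g, hg⟩ := exists_conj_fix R hR (P := closure {proj s, proj t})
      (IsPGroup.of_card (n := 2) hp.isKleinFour.card_four)
    refine mem_inn_of_conj (γ := MulAut.conj g) ?_
    have h1 := conj_pow_eq_one (γ := MulAut.conj g) hβ
    obtain ⟨M, σ, e⟩ := exists_eq_inn_mul_field ((MulAut.conj g)⁻¹ * β * MulAut.conj g)
    rw [e] at h1 hg ⊢
    obtain ⟨p, f, hp', hq⟩ := exists_card_eq_pow F
    haveI := Fact.mk hp'
    have hf : Odd f := by
      by_contra hf
      obtain ⟨m, rfl⟩ := Nat.not_odd_iff_even.1 hf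
      rw [Nat.card_eq_fintype_card, pow_add] at hq
      rw [hq] at hF hodd
      generalize p ^ m = x at hF hodd
      have : x % 8 < 8 := Nat.mod_lt _ (by norm_num)
      rw [Nat.mul_mod] at hF
      have h8 : x * x % 2 = (x % 8) * (x % 8) % 2 := by
        rw [Nat.mul_mod, Nat.mul_mod (x % 8), Nat.mod_mod_of_dvd x (by norm_num : 2 ∣ 8)]
      rw [h8] at hodd
      generalize x % 8 = y at *
      interval_cases y <;> simp_all
    have hσ : σ = 1 := H14.JR.eq_one_of_coprime (field_pow_eq_one h1)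
      (orderOf_dvd_iff_pow_eq_one.1 (orderOf_ringAut_dvd hq σ))
      (Nat.Coprime.pow_left _ (Nat.coprime_two_left.2 hf))
    rw [hσ, map_one, mul_one] at hg ⊢
    exact inn_of_fix_pair h2 hst (hg _ (subset_closure (by simp))) (hg _ (subset_closure (by simp)))
  have hodd : Odd (r ^ k) := (hr.out.odd_of_ne_two hr2).pow
  obtain ⟨M, σ, e⟩ := exists_eq_inn_mul_field β
  have h1 := field_pow_eq_one (e ▸ hβ)
  have hσ : σ = 1 := by
    refine field_eq_one σ hr2 hrF h1 (hd.trans (card_dvd_of_surjective _ proj_surjective)) ?_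
    intro s a hs
    obtain ⟨g, hg⟩ := exists_conj_fix R hR
      ((isPGroup_zpowers_of_pow (hs ▸ pow_orderOf_eq_one s)).map proj)
    obtain ⟨c, rfl⟩ := proj_surjective g
    have h2 := hg _ (mem_map_of_mem _ (mem_zpowers s))
    rw [MulAut.mul_apply, MulAut.mul_apply, MulAut.inv_apply, MulEquiv.symm_apply_eq,
      MulAut.conj_apply, ← map_inv, ← map_mul, ← map_mul, e] at h2
    obtain ⟨s', h3, h4⟩ := exists_semilin M σ (c * s * c⁻¹)
    have h5 := tr_semilin h3
    rw [h2, proj_eq_iff] at h4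
    rw [tr_conj] at h5
    rcases h4 with h4 | h4
    · rw [← h5, ← h4, tr_conj]
    · have h6 : σ (tr s) = -tr s := by rw [← h5, ← tr_conj s c, h4, tr_neg, neg_neg]
      have h7 : ∀ n, (σ ^ n) (tr s) = (-1) ^ n * tr s := by
        intro n
        induction n with
        | zero => simp
        | succ n ih => rw [pow_succ', RingAut.mul_apply, ih, map_mul, h6]; simp [pow_succ]
      have h8 := h7 (r ^ k)
      rw [h1, hodd.neg_one_pow] at h8
      rw [h6]
      simpa using h8.symm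
  rw [hσ, map_one, mul_one] at e
  refine mem_of_sq_mem hodd hβ ?_
  rw [e, ← map_pow]
  exact pslInn_mem_inn (c := GeneralLinearGroup.det M) (map_pow _ _ _)

end H14.W
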